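import Groth.Agent.Lib.ProjSpace.Basic
import Mathlib.Topology.KrullDimension
import Mathlib.RingTheory.KrullDimension.Field
import Mathlib.AlgebraicGeometry.Morphisms.IsIso
import Mathlib.RingTheory.Spectrum.Prime.Topology

/-!
# The dimension of projective space; the case `n = 0`

* `Dim.topologicalKrullDim_le_of_cover`: Krull dimension is bounded on an open cover.
* `Dim.topologicalKrullDim_projSpace`: `dim P^n_R = dim R + n` for Noetherian `R`.
* `Dim.isIso_toSpec_zero`: `P^0_R = Spec R`.
-/

universe u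

open CategoryTheory AlgebraicGeometry TopologicalSpace Order

noncomputable section

namespace Groth.Agent.Lib.ProjSpace.Dim

open Groth.Agent.Lib.ProjSpace.Basic

theorem topologicalKrullDim_le_of_cover {ι : Type*} {X : Type*} {Y : ι → Type*} [TopologicalSpace X]
    [∀ i, TopologicalSpace (Y i)] (f : ∀ i, Y i → X) (hf : ∀ i, Topology.IsOpenEmbedding (f i))
    (hcov : ∀ x, ∃ i y, f i y = x) {d : WithBot ℕ∞} (h : ∀ i, topologicalKrullDim (Y i) ≤ d) :
    topologicalKrullDim X ≤ d := by
  rcases isEmpty_or_nonempty (IrreducibleCloseds X) with h0 | h0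
  · rw [topologicalKrullDim, krullDim_eq_bot]; exact bot_le
  rw [topologicalKrullDim, krullDim_eq_iSup_coheight]
  refine iSup_le fun Z => ?_
  obtain ⟨x, hx⟩ := Z.2.nonempty
  obtain ⟨i, y, rfl⟩ := hcov x
  let Z' : IrreducibleCloseds (Y i) :=
    ⟨f i ⁻¹' Z, Z.2.preimage (hf i) ⟨_, hx, y, rfl⟩, Z.3.preimage (hf i).continuous⟩
  have hZ : IrreducibleCloseds.map (f i) (hf i).continuous Z' = Z := by
    ext1
    show closure (f i '' (f i ⁻¹' (Z : Set X))) = Z
    rw [Set.image_preimage_eq_inter_range]
    refine le_antisymm (closure_minimal Set.inter_subset_left Z.3) ?_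
    exact subset_closure_inter_of_isPreirreducible_of_isOpen Z.2.isPreirreducible
      (hf i).isOpen_range ⟨_, hx, y, rfl⟩
  rw [← hZ, (hf i).coheight_map]
  exact (coheight_le_krullDim Z').trans (h i)

theorem isOpenEmbedding_chartι {n : ℕ} (R : Type u) [CommRing R] (i : Fin (n + 1)) :
    Topology.IsOpenEmbedding (chartι R i) := (chartι R i).isOpenEmbedding

theorem topologicalKrullDim_projSpace (n : ℕ) (R : Type u) [CommRing R] [IsNoetherianRing R] :
    topologicalKrullDim (CohB1.ProjSpace n R) = ringKrullDim R + n := by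
  have hd : topologicalKrullDim (PrimeSpectrum (MvPolynomial (Fin n) R)) = ringKrullDim R + n := by
    rw [PrimeSpectrum.topologicalKrullDim_eq_ringKrullDim, MvPolynomial.ringKrullDim_of_isNoetherianRing]
    simp
  apply le_antisymm
  · refine topologicalKrullDim_le_of_cover (fun i => chartι R i) (isOpenEmbedding_chartι R)
      (fun x => ?_) (fun _ => hd.le)
    obtain ⟨i, y, hy⟩ := exists_mem_opensRange_chartι n R x
    exact ⟨i, y, hy⟩
  · exact hd.ge.trans (isOpenEmbedding_chartι R (0 : Fin (n + 1))).isInducing.topologicalKrullDim_le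

theorem topologicalKrullDim_projSpace_of_field (n : ℕ) (k : Type u) [Field k] :
    topologicalKrullDim (CohB1.ProjSpace n k) = (n : WithBot ℕ∞) := by
  rw [topologicalKrullDim_projSpace, ringKrullDim_eq_zero_of_field, zero_add]

theorem isIso_toSpec_zero (R : Type u) [CommRing R] : IsIso (CohB1.ProjSpace.toSpec 0 R) := by
  have : IsIso (chartι R (0 : Fin (0 + 1))) := by
    refine (isIso_iff_isOpenImmersion_and_surjective _).mpr ⟨inferInstance, ⟨?_⟩⟩
    intro x
    obtain ⟨i, y, hy⟩ := exists_mem_opensRange_chartι 0 R x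
    exact ⟨y, by convert hy; exact Subsingleton.elim (α := Fin 1) _ _⟩
  have hC : IsIso (CommRingCat.ofHom (MvPolynomial.C : R →+* MvPolynomial (Fin 0) R)) :=
    (MvPolynomial.isEmptyRingEquiv R (Fin 0)).symm.toCommRingCatIso.isIso_hom
  have : IsIso (chartι R (0 : Fin (0 + 1)) ≫ CohB1.ProjSpace.toSpec 0 R) := by
    rw [chartι_toSpec]; infer_instance
  exact IsIso.of_isIso_comp_left (chartι R (0 : Fin (0 + 1))) _

end Groth.Agent.Lib.ProjSpace.Dim
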