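import Groth.Agent.Lib.ProjSpace.Basic
import Mathlib.AlgebraicGeometry.ProjectiveSpectrum.Functor
import Mathlib.AlgebraicGeometry.Pullbacks
import Mathlib.RingTheory.TensorProduct.MvPolynomial
import Mathlib.Algebra.Category.Ring.Constructions

/-!
# Base change of projective space

* `BaseChange.projMap φ : P^n_S ⟶ P^n_R`, `BaseChange.isPullback_projMap`: it is cartesian over
  `Spec S ⟶ Spec R`.
* `BaseChange.overSpecIso : ProjSpaceOver n (Spec R) ≅ ProjSpace n R` over `Spec R`.
* `BaseChange.overMap g : ProjSpaceOver n T ⟶ ProjSpaceOver n S`, cartesian over `g`.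
* instances for `ProjSpaceOver.toBase`: proper, smooth, surjective.
-/

universe u

open CategoryTheory CategoryTheory.Limits AlgebraicGeometry MvPolynomial HomogeneousLocalization

noncomputable section

namespace Groth.Agent.Lib.ProjSpace.BaseChange

open Groth.Agent.Lib.ProjSpace.Charts Groth.Agent.Lib.ProjSpace.Basic

variable (n : ℕ) {R S : Type u} [CommRing R] [CommRing S] (φ : R →+* S)

/-- `MvPolynomial.map φ` as a graded ring hom. -/
def mapHom : GradedRingHom (CohB1.polyGrading n R) (CohB1.polyGrading n S) where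
  toRingHom := MvPolynomial.map φ
  map_mem {i x} h := (mem_homogeneousSubmodule i _).mpr (((mem_homogeneousSubmodule i x).mp h).map φ)

@[simp] theorem mapHom_apply (p : MvPolynomial (Fin (n + 1)) R) :
    mapHom n φ p = MvPolynomial.map φ p := rfl

theorem irrelevant_le_map : HomogeneousIdeal.irrelevant (CohB1.polyGrading n S) ≤
    (HomogeneousIdeal.irrelevant (CohB1.polyGrading n R)).map (mapHom n φ) := by
  have hX : ∀ i : Fin (n + 1), (X i : MvPolynomial (Fin (n + 1)) S) ∈
      (HomogeneousIdeal.irrelevant (CohB1.polyGrading n R)).map (mapHom n φ) := fun i => by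
    have : (X i : MvPolynomial (Fin (n + 1)) R) ∈ HomogeneousIdeal.irrelevant (CohB1.polyGrading n R) :=
      DirectSum.decompose_of_mem_ne (CohB1.polyGrading n R) (isHomogeneous_X R i) one_ne_zero
    have h2 := Ideal.mem_map_of_mem (mapHom n φ)
      (I := (HomogeneousIdeal.irrelevant (CohB1.polyGrading n R)).toIdeal) this
    rw [mapHom_apply, map_X] at h2
    exact h2
  intro z hz
  have h0 : coeff 0 z = 0 := by
    have h' := (HomogeneousIdeal.mem_irrelevant_iff _ _).mp hz
    rw [GradedRing.proj_apply] at h'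
    have h'' : homogeneousComponent 0 z = 0 := by
      rw [← decomposition.decompose'_apply]; exact h'
    rw [homogeneousComponent_zero] at h''
    exact C_injective _ _ (h''.trans C_0.symm)
  rw [as_sum z]
  refine Ideal.sum_mem _ fun d hd => ?_
  have hd0 : d ≠ 0 := by rintro rfl; exact (mem_support_iff.mp hd) h0
  obtain ⟨i, hi⟩ := Finsupp.ne_iff.mp hd0
  obtain ⟨e, rfl⟩ : ∃ e, d = Finsupp.single i 1 + e :=
    ⟨d - Finsupp.single i 1, (add_tsub_cancel_of_le (Finsupp.single_le_iff.mpr
      (Nat.one_le_iff_ne_zero.mpr hi))).symm⟩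
  rw [monomial_single_add, pow_one]
  exact Ideal.mul_mem_right _ _ (hX i)

/-- The morphism `P^n_S ⟶ P^n_R` induced by `φ`. -/
def projMap : CohB1.ProjSpace n S ⟶ CohB1.ProjSpace n R :=
  Proj.map (mapHom n φ) (irrelevant_le_map n φ)

theorem projMap_preimage_basicOpen (p : MvPolynomial (Fin (n + 1)) R) :
    projMap n φ ⁻¹ᵁ Proj.basicOpen (CohB1.polyGrading n R) p =
      Proj.basicOpen (CohB1.polyGrading n S) (MvPolynomial.map φ p) :=
  Proj.map_preimage_basicOpen (mapHom n φ) (irrelevant_le_map n φ) p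

variable {n}

/-- The map on standard charts, before dehomogenization. -/
def awayMapX (i : Fin (n + 1)) : AwayX R i →+* AwayX S i :=
  (HomogeneousLocalization.mapId (CohB1.polyGrading n S) (by simp)).comp
    (HomogeneousLocalization.Away.map (mapHom n φ) (X i))

theorem awayMapX_chartEquiv (i : Fin (n + 1)) (p : MvPolynomial (Fin n) R) :
    awayMapX φ i (chartEquiv R i p) = chartEquiv S i (MvPolynomial.map φ p) := by
  induction p using MvPolynomial.induction_on with
  | C r =>
    rw [chartEquiv_C, map_C, chartEquiv_C]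
    apply HomogeneousLocalization.val_injective
    show Localization.mk (MvPolynomial.map φ (C r)) ⟨MvPolynomial.map φ 1, _⟩ =
      Localization.mk (C (φ r)) ⟨1, _⟩
    simp
  | add p q hp hq => simp only [map_add, hp, hq]
  | mul_X p k hp =>
    simp only [map_mul, map_X, hp, chartEquiv_X]
    congr 1
    apply HomogeneousLocalization.val_injective
    show Localization.mk (MvPolynomial.map φ (X (i.succAbove k))) ⟨MvPolynomial.map φ (X i), _⟩ =
      Localization.mk (X (i.succAbove k)) ⟨X i, _⟩
    simp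

@[reassoc]
theorem awayχ_comp_projMap (i : Fin (n + 1)) :
    awayχ S i ≫ projMap n φ = Spec.map (CommRingCat.ofHom (awayMapX φ i)) ≫ awayχ R i := by
  have h := Proj.awayι_comp_map (mapHom n φ) (irrelevant_le_map n φ) (i := 1) one_pos (X i)
    (X_mem_one i)
  have key : ∀ (t : MvPolynomial (Fin (n + 1)) S) (ht : t ∈ CohB1.polyGrading n S 1)
      (e : t = X i) (hle : Submonoid.powers t ≤ Submonoid.powers (X i)),
      Proj.awayι (CohB1.polyGrading n S) (X i) (X_mem_one i) one_pos =
        Spec.map (CommRingCat.ofHom (HomogeneousLocalization.mapId (CohB1.polyGrading n S) hle)) ≫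
          Proj.awayι (CohB1.polyGrading n S) t ht one_pos := by
    rintro t ht rfl hle
    have : (HomogeneousLocalization.mapId (CohB1.polyGrading n S) hle) = RingHom.id _ := by
      ext a
      obtain ⟨c, rfl⟩ := a.mk_surjective
      rfl
    rw [this]
    simp
  change Proj.awayι _ _ (X_mem_one i) one_pos ≫ Proj.map _ _ = _
  rw [key (mapHom n φ (X i)) ((mapHom n φ).map_mem (X_mem_one i)) (map_X φ i) (by simp),
    Category.assoc]
  erw [h]
  rw [← Category.assoc, ← Spec.map_comp]
  rfl

@[reassoc]
theorem chartι_comp_projMap (i : Fin (n + 1)) :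
    chartι S i ≫ projMap n φ = Spec.map (CommRingCat.ofHom (MvPolynomial.map φ)) ≫ chartι R i := by
  unfold chartι
  rw [Category.assoc, awayχ_comp_projMap, ← Category.assoc, ← Category.assoc, ← Spec.map_comp,
    ← Spec.map_comp, ← CommRingCat.ofHom_comp, ← CommRingCat.ofHom_comp]
  congr 3
  refine RingHom.ext fun a => ?_
  obtain ⟨p, rfl⟩ := (chartEquiv R i).surjective a
  simp [awayMapX_chartEquiv]

variable (n)

theorem projMap_toSpec :
    projMap n φ ≫ CohB1.ProjSpace.toSpec n R =
      CohB1.ProjSpace.toSpec n S ≫ Spec.map (CommRingCat.ofHom φ) := by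
  refine Scheme.Cover.hom_ext (chartCover n S) _ _ fun (i : Fin (n + 1)) => ?_
  show chartι S i ≫ projMap n φ ≫ CohB1.ProjSpace.toSpec n R =
    chartι S i ≫ CohB1.ProjSpace.toSpec n S ≫ Spec.map (CommRingCat.ofHom φ)
  rw [chartι_comp_projMap_assoc, chartι_toSpec, chartι_toSpec_assoc, ← Spec.map_comp, ← Spec.map_comp]
  congr 1
  ext r : 2
  exact map_C φ r

theorem isPullback_chart (i : Fin (n + 1)) :
    IsPullback (Spec.map (CommRingCat.ofHom (MvPolynomial.map (σ := Fin n) φ))) (chartι S i)
      (chartι R i) (projMap n φ) := by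
  refine IsOpenImmersion.isPullback _ _ _ _ (chartι_comp_projMap φ i) ?_
  rw [opensRange_chartι, opensRange_chartι, projMap_preimage_basicOpen, map_X]

theorem isPullback_mvPolynomial (m : ℕ) :
    IsPullback (Spec.map (CommRingCat.ofHom (MvPolynomial.map (σ := Fin m) φ)))
      (Spec.map (CommRingCat.ofHom (MvPolynomial.C : S →+* MvPolynomial (Fin m) S)))
      (Spec.map (CommRingCat.ofHom (MvPolynomial.C : R →+* MvPolynomial (Fin m) R)))
      (Spec.map (CommRingCat.ofHom φ)) := by
  algebraize [φ]
  let := MvPolynomial.algebraMvPolynomial (σ := Fin m) (R := R) (S := S)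
  have h : IsPushout (CommRingCat.ofHom (algebraMap R (MvPolynomial (Fin m) R)))
      (CommRingCat.ofHom (algebraMap R S))
      (CommRingCat.ofHom (algebraMap (MvPolynomial (Fin m) R) (MvPolynomial (Fin m) S)))
      (CommRingCat.ofHom (algebraMap S (MvPolynomial (Fin m) S))) :=
    CommRingCat.isPushout_iff_isPushout.mpr inferInstance
  exact isPullback_SpecMap_of_isPushout _ _ _ _ h

theorem isPullback_projMap :
    IsPullback (projMap n φ) (CohB1.ProjSpace.toSpec n S) (CohB1.ProjSpace.toSpec n R)
      (Spec.map (CommRingCat.ofHom φ)) := by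
  refine Scheme.isPullback_of_openCover _ _ _ _ (chartCover n R) fun (i : Fin (n + 1)) => ?_
  let e := (isPullback_chart n φ i).flip.isoPullback
  refine (isPullback_mvPolynomial φ n).of_iso e (Iso.refl _) (Iso.refl _) (Iso.refl _) ?_ ?_ ?_ ?_
  · show _ ≫ 𝟙 _ = e.hom ≫ pullback.snd (projMap n φ) (chartι R i)
    rw [Category.comp_id]
    exact ((isPullback_chart n φ i).flip.isoPullback_hom_snd).symm
  · show _ ≫ 𝟙 _ = e.hom ≫ pullback.fst (projMap n φ) (chartι R i) ≫ CohB1.ProjSpace.toSpec n S
    rw [Category.comp_id, ← Category.assoc, (isPullback_chart n φ i).flip.isoPullback_hom_fst]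
    exact (chartι_toSpec S i).symm
  · show _ ≫ 𝟙 _ = 𝟙 _ ≫ chartι R i ≫ CohB1.ProjSpace.toSpec n R
    rw [Category.comp_id, Category.id_comp]
    exact (chartι_toSpec R i).symm
  · simp

variable (R)

/-- `ℤ → R`. -/
def ulz (R : Type u) [CommRing R] : ULift.{u} ℤ →+* R :=
  (Int.castRingHom R).comp ULift.ringEquiv.toRingHom

/-- `ProjSpaceOver n (Spec R)` is `ProjSpace n R`. -/
theorem isPullback_spec :
    IsPullback (projMap n (ulz R)) (CohB1.ProjSpace.toSpec n R)
      (CohB1.ProjSpace.toSpec n (ULift.{u} ℤ)) (specULiftZIsTerminal.from (Spec (CommRingCat.of R))) := by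
  convert isPullback_projMap n (ulz R) using 1
  exact specULiftZIsTerminal.hom_ext _ _

/-- `ProjSpaceOver n (Spec R) ≅ ProjSpace n R`. -/
def overSpecIso : CohB1.ProjSpaceOver n (Spec (CommRingCat.of R)) ≅ CohB1.ProjSpace n R :=
  (isPullback_spec n R).isoPullback.symm

@[reassoc]
theorem overSpecIso_hom_toSpec :
    (overSpecIso n R).hom ≫ CohB1.ProjSpace.toSpec n R =
      CohB1.ProjSpaceOver.toBase n (Spec (CommRingCat.of R)) :=
  (isPullback_spec n R).isoPullback_inv_snd

@[reassoc]
theorem overSpecIso_inv_toBase :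
    (overSpecIso n R).inv ≫ CohB1.ProjSpaceOver.toBase n (Spec (CommRingCat.of R)) =
      CohB1.ProjSpace.toSpec n R :=
  (isPullback_spec n R).isoPullback_hom_snd

@[reassoc]
theorem overSpecIso_hom_projMap :
    (overSpecIso n R).hom ≫ projMap n (ulz R) =
      pullback.fst (CohB1.ProjSpace.toSpec n (ULift.{u} ℤ))
        (specULiftZIsTerminal.from (Spec (CommRingCat.of R))) :=
  (isPullback_spec n R).isoPullback_inv_fst

variable {R}

/-- `P^n_T ⟶ P^n_S` for `g : T ⟶ S`. -/
def overMap {T U : Scheme.{u}} (g : T ⟶ U) : CohB1.ProjSpaceOver n T ⟶ CohB1.ProjSpaceOver n U :=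
  (pullback.lift (pullback.fst _ _) (pullback.snd _ _ ≫ g) (by
    rw [pullback.condition, Category.assoc]
    congr 1
    exact specULiftZIsTerminal.hom_ext _ _) :
    pullback (CohB1.ProjSpace.toSpec n (ULift.{u} ℤ)) (specULiftZIsTerminal.from T) ⟶
      pullback (CohB1.ProjSpace.toSpec n (ULift.{u} ℤ)) (specULiftZIsTerminal.from U))

@[reassoc]
theorem overMap_toBase {T U : Scheme.{u}} (g : T ⟶ U) :
    overMap n g ≫ CohB1.ProjSpaceOver.toBase n U = CohB1.ProjSpaceOver.toBase n T ≫ g :=
  pullback.lift_snd _ _ _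

@[reassoc]
theorem overMap_fst {T U : Scheme.{u}} (g : T ⟶ U) :
    overMap n g ≫ pullback.fst (CohB1.ProjSpace.toSpec n (ULift.{u} ℤ)) (specULiftZIsTerminal.from U) =
      pullback.fst _ _ :=
  pullback.lift_fst _ _ _

theorem isPullback_overMap {T U : Scheme.{u}} (g : T ⟶ U) :
    IsPullback (overMap n g) (CohB1.ProjSpaceOver.toBase n T) (CohB1.ProjSpaceOver.toBase n U) g := by
  refine IsPullback.of_right ?_ (overMap_toBase n g) (IsPullback.of_hasPullback _ _)
  rw [overMap_fst, specULiftZIsTerminal.hom_ext (g ≫ specULiftZIsTerminal.from U)]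
  exact IsPullback.of_hasPullback _ _

instance isProper_toBase (T : Scheme.{u}) : IsProper (CohB1.ProjSpaceOver.toBase n T) :=
  MorphismProperty.of_isPullback (P := @IsProper.{u}) (IsPullback.of_hasPullback _ _)
    (isProper_toSpec n (ULift.{u} ℤ))

instance smooth_toBase (T : Scheme.{u}) : Smooth (CohB1.ProjSpaceOver.toBase n T) :=
  MorphismProperty.of_isPullback (P := @Smooth.{u}) (IsPullback.of_hasPullback _ _)
    (smooth_toSpec n (ULift.{u} ℤ))

end Groth.Agent.Lib.ProjSpace.BaseChange
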