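import Groth.Agent.Lib.ProjSpace.Charts
import Mathlib.AlgebraicGeometry.Morphisms.Smooth
import Mathlib.AlgebraicGeometry.Morphisms.UnderlyingMap
import Mathlib.AlgebraicGeometry.Properties
import Mathlib.AlgebraicGeometry.Noetherian
import Mathlib.RingTheory.Smooth.StandardSmoothCotangent
import Mathlib.RingTheory.KrullDimension.Polynomial

/-!
# Basic properties of `CohB1.ProjSpace n R`

* `Basic.chartι i : Spec R[x_1..x_n] ⟶ P^n_R`, an open immersion with range `D_+(T_i)`, over `Spec R`;
  `Basic.chartCover`: the affine open cover; `Basic.iSup_basicOpen_X_eq_top`, `Basic.isAffineOpen_basicOpen_X`.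
* `P^n_R → Spec R` is proper, smooth (of relative dimension `n`), flat, surjective, finitely presented.
* `P^n_R` is integral for a domain `R`; of dimension `n` over a field.
-/

universe u

open CategoryTheory AlgebraicGeometry MvPolynomial HomogeneousLocalization TopologicalSpace

noncomputable section

namespace Groth.Agent.Lib.ProjSpace.Basic

open Groth.Agent.Lib.ProjSpace.Charts

variable (n : ℕ) (R : Type u) [CommRing R]

theorem algebraMap_grade_zero_bijective :
    Function.Bijective (algebraMap R (CohB1.polyGrading n R 0)) := by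
  constructor
  · intro a b h
    have h' : (C a : MvPolynomial (Fin (n + 1)) R) = C b := congrArg Subtype.val h
    exact C_injective _ _ h'
  · rintro ⟨p, hp⟩
    have hp' : p.totalDegree = 0 :=
      (totalDegree_zero_iff_isHomogeneous (p := p)).mpr hp
    rw [totalDegree_eq_zero_iff_eq_C] at hp'
    exact ⟨coeff 0 p, Subtype.ext hp'.symm⟩

/-- `R ≃ 𝒜 0`. -/
def gradeZeroEquiv : R ≃+* CohB1.polyGrading n R 0 :=
  RingEquiv.ofBijective _ (algebraMap_grade_zero_bijective n R)

instance isIso_specMap_gradeZero :
    IsIso (Spec.map (CommRingCat.ofHom (algebraMap R (CohB1.polyGrading n R 0)))) := by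
  have : IsIso (CommRingCat.ofHom (algebraMap R (CohB1.polyGrading n R 0))) :=
    (gradeZeroEquiv n R).toCommRingCatIso.isIso_hom
  infer_instance

instance finiteType_gradeZero :
    Algebra.FiniteType (CohB1.polyGrading n R 0) (MvPolynomial (Fin (n + 1)) R) :=
  have : IsScalarTower R (CohB1.polyGrading n R 0) (MvPolynomial (Fin (n + 1)) R) :=
    IsScalarTower.of_algebraMap_eq (R := R) (S := CohB1.polyGrading n R 0)
      (A := MvPolynomial (Fin (n + 1)) R) fun _ => rfl
  Algebra.FiniteType.of_restrictScalars_finiteType R _ _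

theorem iSup_basicOpen_X_eq_top :
    (⨆ i : Fin (n + 1), Proj.basicOpen (CohB1.polyGrading n R) (MvPolynomial.X i)) = ⊤ := by
  refine Proj.iSup_basicOpen_eq_top' _ _ (fun i => ⟨1, isHomogeneous_X R i⟩) ?_
  rw [eq_top_iff]
  intro p hp0
  clear hp0
  induction p using MvPolynomial.induction_on with
  | C r => exact Subalgebra.algebraMap_mem _ (algebraMap R (CohB1.polyGrading n R 0) r)
  | add p q hp hq => exact add_mem hp hq
  | mul_X p i hp => exact mul_mem hp (Algebra.subset_adjoin ⟨i, rfl⟩)

variable {n}

theorem isAffineOpen_basicOpen_X (i : Fin (n + 1)) :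
    IsAffineOpen (Proj.basicOpen (CohB1.polyGrading n R) (MvPolynomial.X i)) :=
  Proj.isAffineOpen_basicOpen (CohB1.polyGrading n R) _ (X_mem_one i) one_pos

/-- The open immersion `Spec R[T]_(T_i) ⟶ P^n_R`. -/
def awayχ (i : Fin (n + 1)) : Spec (CommRingCat.of (AwayX R i)) ⟶ CohB1.ProjSpace n R :=
  Proj.awayι (CohB1.polyGrading n R) (MvPolynomial.X i) (X_mem_one i) one_pos

instance isOpenImmersion_awayχ (i : Fin (n + 1)) : IsOpenImmersion (awayχ R i) :=
  inferInstanceAs (IsOpenImmersion
    (Proj.awayι (CohB1.polyGrading n R) (MvPolynomial.X i) (X_mem_one i) one_pos))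

theorem opensRange_awayχ (i : Fin (n + 1)) :
    (awayχ R i).opensRange = Proj.basicOpen (CohB1.polyGrading n R) (MvPolynomial.X i) :=
  Proj.opensRange_awayι _ _ _ _

@[reassoc]
theorem awayχ_toSpec (i : Fin (n + 1)) :
    awayχ R i ≫ CohB1.ProjSpace.toSpec n R = Spec.map (CommRingCat.ofHom (constHom R i)) := by
  change Proj.awayι _ _ (X_mem_one i) one_pos ≫ Proj.toSpecZero _ ≫ _ = _
  rw [Proj.awayι_toSpecZero_assoc]
  exact (Spec.map_comp _ _).symm

/-- The `i`-th standard chart. -/
def chartι (i : Fin (n + 1)) :
    Spec (CommRingCat.of (MvPolynomial (Fin n) R)) ⟶ CohB1.ProjSpace n R :=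
  Spec.map (CommRingCat.ofHom (chartEquiv R i).symm.toRingHom) ≫ awayχ R i

instance isIso_chartEquiv_symm (i : Fin (n + 1)) :
    IsIso (Spec.map (CommRingCat.ofHom (chartEquiv R i).symm.toRingHom)) := by
  have : IsIso (CommRingCat.ofHom (chartEquiv R i).symm.toRingHom) :=
    (chartEquiv R i).symm.toCommRingCatIso.isIso_hom
  infer_instance

instance isOpenImmersion_chartι (i : Fin (n + 1)) : IsOpenImmersion (chartι R i) := by
  unfold chartι; exact IsOpenImmersion.comp _ _

theorem opensRange_chartι (i : Fin (n + 1)) :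
    (chartι R i).opensRange = Proj.basicOpen (CohB1.polyGrading n R) (MvPolynomial.X i) :=
  (Scheme.Hom.opensRange_comp_of_isIso _ _).trans (opensRange_awayχ R i)

@[reassoc]
theorem chartι_toSpec (i : Fin (n + 1)) :
    chartι R i ≫ CohB1.ProjSpace.toSpec n R = Spec.map (CommRingCat.ofHom MvPolynomial.C) := by
  unfold chartι
  rw [Category.assoc, awayχ_toSpec]
  rw [← Spec.map_comp, ← CommRingCat.ofHom_comp]
  congr 2
  ext r
  refine congrArg (coeff _) (?_ : (chartEquiv R i).symm (constHom R i r) = C r)
  rw [RingEquiv.symm_apply_eq, chartEquiv_C]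

variable (n)

theorem exists_mem_opensRange_chartι (x : CohB1.ProjSpace n R) :
    ∃ i, x ∈ (chartι R i).opensRange := by
  simp_rw [opensRange_chartι]
  exact Opens.mem_iSup.mp ((iSup_basicOpen_X_eq_top n R).ge trivial)

/-- The cover of `P^n_R` by the `n + 1` charts. -/
def chartCover : (CohB1.ProjSpace n R).OpenCover :=
  .mkOfCovers (Fin (n + 1)) (fun _ => Spec (CommRingCat.of (MvPolynomial (Fin n) R)))
    (fun i => chartι R i) (fun x => exists_mem_opensRange_chartι n R x)
    (fun _ => inferInstance)

instance isProper_toSpec : IsProper (CohB1.ProjSpace.toSpec n R) := by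
  have := finiteType_gradeZero n R
  have := isIso_specMap_gradeZero n R
  exact MorphismProperty.comp_mem @IsProper (Proj.toSpecZero (CohB1.polyGrading n R))
    (Spec.map (CommRingCat.ofHom (algebraMap R (CohB1.polyGrading n R 0)))) inferInstance inferInstance

theorem of_chartwise {P : MorphismProperty Scheme.{u}} [IsZariskiLocalAtSource P]
    (h : P (Spec.map (CommRingCat.ofHom (MvPolynomial.C : R →+* MvPolynomial (Fin n) R)))) :
    P (CohB1.ProjSpace.toSpec n R) :=
  IsZariskiLocalAtSource.of_openCover (chartCover n R) fun i => by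
    show P (chartι R i ≫ _)
    exact (chartι_toSpec R i).symm ▸ h

omit n in
/-- A polynomial algebra in `n` variables is standard smooth of relative dimension `n`. -/
theorem isStandardSmoothOfRelativeDimension_mvPolynomial (n : ℕ) :
    Algebra.IsStandardSmoothOfRelativeDimension n R (MvPolynomial (Fin n) R) := by
  let v : PEmpty.{1} → MvPolynomial (Fin n) R := PEmpty.elim
  have hv : Ideal.span (Set.range v) = ⊥ := by simp [Set.range_eq_empty]
  let P₀ := Algebra.PreSubmersivePresentation.naive (R := R) (σ := Fin n) (v := v) PEmpty.elim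
    (fun a => a.elim)
  have h₀ : IsUnit P₀.jacobian := by
    rw [P₀.jacobian_eq_jacobiMatrix_det, Matrix.det_isEmpty, map_one]; exact isUnit_one
  let P : Algebra.SubmersivePresentation R (MvPolynomial (Fin n) R ⧸ Ideal.span (Set.range v))
      (Fin n) PEmpty.{1} := ⟨P₀, h₀⟩
  have hP : Algebra.IsStandardSmoothOfRelativeDimension n R
      (MvPolynomial (Fin n) R ⧸ Ideal.span (Set.range v)) :=
    P.isStandardSmoothOfRelativeDimension (by simp [Algebra.Presentation.dimension])
  exact Algebra.IsStandardSmoothOfRelativeDimension.of_algEquiv n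
    ((Ideal.quotientEquivAlgOfEq R hv).trans (AlgEquiv.quotientBot R _))

instance smoothOfRelativeDimension_toSpec :
    SmoothOfRelativeDimension n (CohB1.ProjSpace.toSpec n R) := by
  have : IsZariskiLocalAtSource (@SmoothOfRelativeDimension.{u} n) := HasRingHomProperty.instIsZariskiLocalAtSource
  refine of_chartwise (P := @SmoothOfRelativeDimension n) n R ?_
  rw [HasRingHomProperty.Spec_iff (P := @SmoothOfRelativeDimension n)]
  refine RingHom.locally_of RingHom.isStandardSmoothOfRelativeDimension_respectsIso _ ?_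
  rw [← MvPolynomial.algebraMap_eq]
  exact (RingHom.isStandardSmoothOfRelativeDimension_algebraMap _).mpr
    (isStandardSmoothOfRelativeDimension_mvPolynomial R n)

instance smooth_toSpec : Smooth (CohB1.ProjSpace.toSpec n R) :=
  SmoothOfRelativeDimension.smooth n _

instance surjective_toSpec : Surjective (CohB1.ProjSpace.toSpec n R) := by
  constructor
  intro p
  have hs : Spec.map (CommRingCat.ofHom (MvPolynomial.eval (fun _ : Fin n => (0 : R)))) ≫
      Spec.map (CommRingCat.ofHom MvPolynomial.C) = 𝟙 (Spec (CommRingCat.of R)) := by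
    rw [← Spec.map_comp, ← CommRingCat.ofHom_comp]
    have : (MvPolynomial.eval (fun _ : Fin n => (0 : R))).comp MvPolynomial.C = RingHom.id R := by
      ext r; simp
    rw [this]
    exact Spec.map_id _
  refine ⟨(Spec.map (CommRingCat.ofHom (MvPolynomial.eval (fun _ : Fin n => (0 : R)))) ≫
    chartι R 0) p, ?_⟩
  rw [← Scheme.Hom.comp_apply, Category.assoc, chartι_toSpec, hs]
  rfl

instance isReduced_projSpace [IsReduced R] : AlgebraicGeometry.IsReduced (CohB1.ProjSpace n R) := by
  have (i : Fin (n + 1)) : AlgebraicGeometry.IsReduced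
      (Spec (CommRingCat.of (MvPolynomial (Fin n) R))) := inferInstance
  exact @IsReduced.of_openCover _ (chartCover n R) this

variable [IsDomain R]

/-- The generic point of `P^n_R`, the zero ideal. -/
def zeroPoint : CohB1.ProjSpace n R where
  asHomogeneousIdeal := ⊥
  isPrime := by
    rw [HomogeneousIdeal.toIdeal_bot]; exact Ideal.isPrime_bot
  not_irrelevant_le h := by
    have h' := h (show (X 0 : MvPolynomial (Fin (n + 1)) R) ∈
      HomogeneousIdeal.irrelevant (CohB1.polyGrading n R) from ?_)
    · exact X_ne_zero 0 (show (X 0 : MvPolynomial (Fin (n + 1)) R) = 0 from h')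
    · exact DirectSum.decompose_of_mem_ne (CohB1.polyGrading n R) (isHomogeneous_X R 0) one_ne_zero

theorem zeroPoint_specializes (x : CohB1.ProjSpace n R) : zeroPoint n R ⤳ x := by
  rw [specializes_iff_mem_closure]
  exact (ProjectiveSpectrum.le_iff_mem_closure (CohB1.polyGrading n R) (zeroPoint n R) x).mp
    fun _ hy => by
      have hy' : _ = (0 : MvPolynomial (Fin (n + 1)) R) := hy
      rw [hy']; exact zero_mem _

instance irreducibleSpace_projSpace : IrreducibleSpace (CohB1.ProjSpace n R) := by
  have h : closure ({zeroPoint n R} : Set (CohB1.ProjSpace n R)) = Set.univ :=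
    Set.eq_univ_of_forall fun x => specializes_iff_mem_closure.mp (zeroPoint_specializes n R x)
  refine (irreducibleSpace_def _).mpr ?_
  rw [Set.top_eq_univ, ← h]
  exact isIrreducible_singleton.closure

instance isIntegral_projSpace : AlgebraicGeometry.IsIntegral (CohB1.ProjSpace n R) :=
  isIntegral_of_irreducibleSpace_of_isReduced _

end Groth.Agent.Lib.ProjSpace.Basic
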