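import Groth.Prelude.Def_CohB1

/-!
# The standard charts of projective space

* `Charts.fromPoly i : R[T_j : j ≠ i] →+* R[T]_(T_i)` sends `T_j ↦ T_j / T_i`; bijective.
* `Charts.awayAlgEquiv i` : the induced `R`-algebra equivalence (`R[T]_(T_i)` gets the algebra structure
  through `R → 𝒜 0`).
* `Charts.chartRingEquiv i` : the variant with `n` variables indexed by `Fin n`.
-/

universe u

open CategoryTheory AlgebraicGeometry MvPolynomial HomogeneousLocalization

noncomputable section

namespace Groth.Agent.Lib.ProjSpace.Charts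

variable {n : ℕ} {R : Type u} [CommRing R]

/-- The degree-zero localization `R[T]_(T_i)`. -/
abbrev AwayX (R : Type u) [CommRing R] (i : Fin (n + 1)) : Type u :=
  HomogeneousLocalization.Away (CohB1.polyGrading n R) (X i : MvPolynomial (Fin (n + 1)) R)

/-- The constants `R → R[T]_(T_i)`. -/
def constHom (R : Type u) [CommRing R] (i : Fin (n + 1)) : R →+* AwayX R i :=
  (fromZeroRingHom (CohB1.polyGrading n R) (Submonoid.powers (X i))).comp
    (algebraMap R (CohB1.polyGrading n R 0))

theorem X_mem_one (i : Fin (n + 1)) :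
    (X i : MvPolynomial (Fin (n + 1)) R) ∈ CohB1.polyGrading n R 1 :=
  (mem_homogeneousSubmodule 1 _).mpr (isHomogeneous_X R i)

/-- The coordinate `T_j / T_i`. -/
def coord (R : Type u) [CommRing R] (i j : Fin (n + 1)) : AwayX R i :=
  HomogeneousLocalization.mk (𝒜 := CohB1.polyGrading n R) (x := Submonoid.powers (X i))
    ⟨1, ⟨X j, isHomogeneous_X R j⟩, ⟨X i, isHomogeneous_X R i⟩, Submonoid.mem_powers _⟩

theorem val_coord (i j : Fin (n + 1)) :
    (coord R i j).val = Localization.mk (X j) ⟨X i, Submonoid.mem_powers _⟩ := rfl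

theorem val_constHom (i : Fin (n + 1)) (r : R) :
    (constHom R i r).val = algebraMap (MvPolynomial (Fin (n + 1)) R) _ (C r) := by
  rw [← Localization.mk_one_eq_algebraMap]; rfl

/-- The map `R[T_j : j ≠ i] → R[T]_(T_i)`, `T_j ↦ T_j / T_i`. -/
def fromPoly (R : Type u) [CommRing R] (i : Fin (n + 1)) :
    MvPolynomial {j : Fin (n + 1) // j ≠ i} R →+* AwayX R i :=
  eval₂Hom (constHom R i) fun j => coord R i j.1

/-- Setting `T_i = 1`. -/
def dehom (R : Type u) [CommRing R] (i : Fin (n + 1)) :
    MvPolynomial (Fin (n + 1)) R →+* MvPolynomial {j : Fin (n + 1) // j ≠ i} R :=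
  eval₂Hom C fun j => if h : j = i then 1 else X ⟨j, h⟩

theorem dehom_X_self (i : Fin (n + 1)) : dehom R i (X i) = 1 := by simp [dehom]

theorem dehom_X_of_ne {i j : Fin (n + 1)} (h : j ≠ i) :
    dehom R i (X j) = X ⟨j, h⟩ := by simp [dehom, h]

/-- The inverse map. -/
def toPoly (R : Type u) [CommRing R] (i : Fin (n + 1)) :
    AwayX R i →+* MvPolynomial {j : Fin (n + 1) // j ≠ i} R :=
  (Localization.awayLift (dehom R i) (X i) (by rw [dehom_X_self]; exact isUnit_one)).comp
    (algebraMap (AwayX R i) _)

theorem fromPoly_C (i : Fin (n + 1)) (r : R) : fromPoly R i (C r) = constHom R i r := by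
  simp [fromPoly]

theorem fromPoly_X (i : Fin (n + 1)) (j : {j : Fin (n + 1) // j ≠ i}) :
    fromPoly R i (X j) = coord R i j.1 := by simp [fromPoly]

theorem toPoly_comp_fromPoly (i : Fin (n + 1)) :
    (toPoly R i).comp (fromPoly R i) = RingHom.id _ := by
  apply MvPolynomial.ringHom_ext
  · intro r
    simp only [RingHom.comp_apply, fromPoly_C, RingHom.id_apply, toPoly,
      HomogeneousLocalization.algebraMap_apply, val_constHom, Localization.awayLift,
      IsLocalization.Away.lift_eq]
    simp [dehom]
  · intro j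
    simp only [RingHom.comp_apply, fromPoly_X, RingHom.id_apply, toPoly,
      HomogeneousLocalization.algebraMap_apply, val_coord, Localization.awayLift]
    rw [Localization.mk_eq_mk', IsLocalization.Away.lift, IsLocalization.lift_mk'_spec,
      dehom_X_of_ne j.2, dehom_X_self, one_mul]

/-- Scaling: a form of degree `m` evaluated at `c • v` is `c ^ m` times its value at `v`. -/
theorem eval₂Hom_mul_of_isHomogeneous {σ S : Type*} [CommRing S] (g : R →+* S) (c : S) (v : σ → S)
    {p : MvPolynomial σ R} {m : ℕ} (hp : p.IsHomogeneous m) :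
    eval₂Hom g (fun j => c * v j) p = c ^ m * eval₂Hom g v p := by
  classical
  simp only [coe_eval₂Hom, MvPolynomial.eval₂_eq, Finset.mul_sum]
  refine Finset.sum_congr rfl fun d hd => ?_
  have : d.degree = m := (hp.degree_eq_sum_deg_support hd).symm
  simp_rw [mul_pow, Finset.prod_mul_distrib, Finset.prod_pow_eq_pow_sum]
  rw [show ∑ j ∈ d.support, d j = m from this]
  ring

theorem algebraMap_X_mul_val_coord (i j : Fin (n + 1)) :
    algebraMap (MvPolynomial (Fin (n + 1)) R)
          (Localization.Away (X i : MvPolynomial (Fin (n + 1)) R)) (X i) * (coord R i j).val =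
      algebraMap _ _ (X j : MvPolynomial (Fin (n + 1)) R) := by
  rw [val_coord, Localization.mk_eq_mk']
  exact IsLocalization.mk'_spec' (Localization.Away (X i : MvPolynomial (Fin (n + 1)) R)) (X j)
    (⟨X i, Submonoid.mem_powers _⟩ : Submonoid.powers (X i))

theorem fromPoly_dehom_of_isHomogeneous (i : Fin (n + 1)) {a : MvPolynomial (Fin (n + 1)) R} {m : ℕ}
    (ha : a.IsHomogeneous m) :
    algebraMap (MvPolynomial (Fin (n + 1)) R) (Localization.Away (X i)) (X i) ^ m *
        (fromPoly R i (dehom R i a)).val = algebraMap _ _ a := by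
  set L := Localization.Away (X i : MvPolynomial (Fin (n + 1)) R)
  set g : R →+* L := (algebraMap (MvPolynomial (Fin (n + 1)) R) L).comp C
  have h1 : (fromPoly R i (dehom R i a)).val = eval₂Hom g (fun j => (coord R i j).val) a := by
    have : ((algebraMap (AwayX R i) L).comp ((fromPoly R i).comp (dehom R i))) =
        eval₂Hom g (fun j => (coord R i j).val) := by
      apply MvPolynomial.ringHom_ext
      · intro r; simp [dehom, fromPoly, g]; exact val_constHom i r
      · intro j
        by_cases h : j = i
        · subst h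
          simp [dehom, val_coord, Localization.mk_self (⟨X j, Submonoid.mem_powers _⟩ :
            Submonoid.powers (X j : MvPolynomial (Fin (n + 1)) R))]
        · simp [dehom_X_of_ne h, fromPoly_X]; rfl
    exact DFunLike.congr_fun this a
  rw [h1, ← eval₂Hom_mul_of_isHomogeneous g _ _ ha]
  rw [show (fun j => algebraMap (MvPolynomial (Fin (n + 1)) R) L (X i) * (coord R i j).val) =
    fun j => algebraMap (MvPolynomial (Fin (n + 1)) R) L (X j) from
    funext (algebraMap_X_mul_val_coord i)]
  have : eval₂Hom g (fun j => algebraMap (MvPolynomial (Fin (n + 1)) R) L (X j)) = algebraMap _ L := by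
    apply MvPolynomial.ringHom_ext <;> intro j <;> simp [g]
  exact DFunLike.congr_fun this a

theorem fromPoly_surjective (i : Fin (n + 1)) : Function.Surjective (fromPoly R i) := by
  intro x
  obtain ⟨m, a, ha, rfl⟩ := HomogeneousLocalization.Away.mk_surjective
    (CohB1.polyGrading n R) (d := 1) (isHomogeneous_X R i) x
  refine ⟨dehom R i a, HomogeneousLocalization.val_injective _ ?_⟩
  erw [HomogeneousLocalization.Away.val_mk]
  rw [Localization.mk_eq_mk', IsLocalization.eq_mk'_iff_mul_eq]
  rw [mul_comm]
  simpa using fromPoly_dehom_of_isHomogeneous i (m := m) (by simpa using ha)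

theorem fromPoly_bijective (i : Fin (n + 1)) : Function.Bijective (fromPoly R i) := by
  refine ⟨fun a b h => ?_, fromPoly_surjective i⟩
  have := congrArg (toPoly R i) h
  rw [← RingHom.comp_apply, ← RingHom.comp_apply, toPoly_comp_fromPoly] at this
  exact this

/-- `R[T_j : j ≠ i] ≃ R[T]_(T_i)`. -/
def awayEquiv (R : Type u) [CommRing R] (i : Fin (n + 1)) :
    MvPolynomial {j : Fin (n + 1) // j ≠ i} R ≃+* AwayX R i :=
  RingEquiv.ofBijective (fromPoly R i) (fromPoly_bijective i)

@[simp] theorem awayEquiv_C (i : Fin (n + 1)) (r : R) :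
    awayEquiv R i (C r) = constHom R i r := fromPoly_C i r

@[simp] theorem awayEquiv_X (i : Fin (n + 1)) (j : {j : Fin (n + 1) // j ≠ i}) :
    awayEquiv R i (X j) = coord R i j.1 := fromPoly_X i j

/-- `R[x_1, …, x_n] ≃ R[T]_(T_i)`, `x_k ↦ T_{i.succAbove k} / T_i`. -/
def chartEquiv (R : Type u) [CommRing R] (i : Fin (n + 1)) :
    MvPolynomial (Fin n) R ≃+* AwayX R i :=
  (renameEquiv R (finSuccAboveEquiv i)).toRingEquiv.trans (awayEquiv R i)

@[simp] theorem chartEquiv_C (i : Fin (n + 1)) (r : R) :
    chartEquiv R i (C r) = constHom R i r := by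
  simp [chartEquiv]

@[simp] theorem chartEquiv_X (i : Fin (n + 1)) (k : Fin n) :
    chartEquiv R i (X k) = coord R i (i.succAbove k) := by
  simp [chartEquiv, finSuccAboveEquiv_apply]

theorem chartEquiv_comp_C (i : Fin (n + 1)) :
    (chartEquiv R i).toRingHom.comp C = constHom R i := RingHom.ext (chartEquiv_C i)

theorem coord_self (i : Fin (n + 1)) : coord R i i = 1 := by
  apply HomogeneousLocalization.val_injective
  rw [HomogeneousLocalization.val_one, val_coord]
  exact Localization.mk_self (S := Submonoid.powers (X i : MvPolynomial (Fin (n + 1)) R))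
    ⟨X i, Submonoid.mem_powers _⟩

end Groth.Agent.Lib.ProjSpace.Charts
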