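import Groth.Agent.Lib.ProjSpace.SmoothDimLE
import Groth.Agent.Lib.CurveBundle.SmoothField
import Groth.Agent.Lib.SmoothCurve.Stalk

/-!
# The dimension of the local rings at closed points of a smooth scheme over a field
-/

set_option autoImplicit false
set_option linter.style.haveILetI false

noncomputable section

universe u

open CategoryTheory AlgebraicGeometry TopologicalSpace

namespace Groth.Agent.Lib.ProjSpace.SmoothDimEq

open Groth.Agent.Lib

variable (k : Type u) [Field k] {X : Scheme.{u}} (c : X ⟶ Spec (CommRingCat.of k)) (r : ℕ)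
  [SmoothOfRelativeDimension r c]

include k c in
/-- Closed points of a scheme smooth of relative dimension `r` over a field have codimension `r`. -/
theorem ringKrullDim_stalk_closed {x : X} (hx : IsClosed ({x} : Set X)) :
    ringKrullDim (X.presheaf.stalk x) = (r : WithBot ℕ∞) := by
  refine le_antisymm ?_ ?_
  · rw [ringKrullDim_stalk_eq_coheight]
    exact (SmoothCurve.Stalk.coheight_le_topologicalKrullDim x).trans
      (SmoothDimLE.topologicalKrullDim_le k c r)
  obtain ⟨U, hU, V, hV, hxV, e, hst⟩ :=
    SmoothOfRelativeDimension.exists_isStandardSmoothOfRelativeDimension (n := r) (f := c) x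
  obtain rfl : U = ⊤ := by
    ext y
    simp only [Opens.coe_top, Set.mem_univ, iff_true, SetLike.mem_coe]
    rw [Subsingleton.elim y (c.base x)]
    exact e hxV
  let χ : CommRingCat.of k ⟶ Γ(X, V) := (Scheme.ΓSpecIso _).inv ≫ c.appLE ⊤ V e
  have hχ : χ.hom.IsStandardSmoothOfRelativeDimension r :=
    (RingHom.isStandardSmoothOfRelativeDimension_respectsIso (n := r)).2 _
      (Scheme.ΓSpecIso (CommRingCat.of k)).commRingCatIsoToRingEquiv.symm hst
  letI : Algebra k Γ(X, V) := χ.hom.toAlgebra
  haveI : Algebra.IsStandardSmoothOfRelativeDimension r k Γ(X, V) := hχ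
  let q := (hV.primeIdealOf ⟨x, hxV⟩).asIdeal
  haveI : q.IsMaximal := hV.primeIdealOf_isMaximal_of_isClosed ⟨x, hxV⟩ hx
  let _ : Algebra Γ(X, V) (X.presheaf.stalk x) :=
    TopCat.Presheaf.algebra_section_stalk X.presheaf ⟨x, hxV⟩
  haveI : IsLocalization.AtPrime (X.presheaf.stalk x) q := hV.isLocalization_stalk ⟨x, hxV⟩
  rw [IsLocalization.AtPrime.ringKrullDim_eq_height q (X.presheaf.stalk x)]
  exact_mod_cast CurveBundle.SmoothField.le_height k (C := Γ(X, V)) r q

include k c in
/-- A nonempty quasi-compact scheme smooth of relative dimension `r` over a field has dimension `r`. -/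
theorem topologicalKrullDim_eq [CompactSpace X] [Nonempty X] :
    topologicalKrullDim X = (r : WithBot ℕ∞) := by
  refine le_antisymm (SmoothDimLE.topologicalKrullDim_le k c r) ?_
  obtain ⟨x, -, hx⟩ := (isClosed_univ : IsClosed (Set.univ : Set X)).exists_closed_singleton Set.univ_nonempty
  have h := ringKrullDim_stalk_closed k c r hx
  rw [ringKrullDim_stalk_eq_coheight] at h
  exact h.ge.trans (SmoothCurve.Stalk.coheight_le_topologicalKrullDim x)

end Groth.Agent.Lib.ProjSpace.SmoothDimEq
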