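import Groth.Agent.Lib.PicProj.Main
import Groth.Agent.Lib.ProjSpace.BaseChange
import Groth.Agent.Lib.Cyc.PB.Sect

/-!
# Base change of the twisting sheaves of projective space

`projMap^* O(d) ≅ O(d)` for a ring map, by matching the generators `T_i ^ d`.
-/

set_option autoImplicit false
set_option backward.isDefEq.respectTransparency false
set_option backward.isDefEq.respectTransparency.types false

noncomputable section

universe u

open CategoryTheory AlgebraicGeometry TopologicalSpace Opposite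

namespace Groth.Agent.Lib.ProjSpace.TwistBC

open Groth.Agent.Lib Groth.Agent.Lib.TensorMod.Dual Groth.Agent.Lib.TensorMod.Gen
open Groth.Agent.Lib.ProjTilde Groth.Agent.Lib.ProjSpace.Charts Groth.Agent.Lib.ProjSpace.Basic
open Groth.Agent.Lib.PicProj.Main ZarCoh.FlatBC.PullbackSections

variable {n : ℕ} {R S : Type u} [CommRing R] [CommRing S]

local notation "𝒢" => CohB1.polyGrading n R

theorem sect_ext' {d : ℤ} {W : (CohB1.ProjSpace n R).Opens} {σ τ : Γ(Twist.twistProjSpace n R d, W)}
    (h : ∀ x : W, sval σ x = sval τ x) : σ = τ :=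
  Subtype.ext (funext fun x => Subtype.ext (h x))

theorem sval_smul' {d : ℤ} {W : (CohB1.ProjSpace n R).Opens} (r : Γ(CohB1.ProjSpace n R, W))
    (σ : Γ(Twist.twistProjSpace n R d, W)) (x : W) : sval (r • σ) x = fval r x * sval σ x :=
  Twist.coe_smul_val d x.1 _ _

theorem sval_gen' (d : ℤ) (i : Fin (n + 1)) (x : U n R i) :
    sval (gen d i) x * A i x.1 ^ (-d).toNat = A i x.1 ^ d.toNat := by
  have h := Basic.val_twistToTilde (gen (n := n) (R := R) d i) x
  rw [show Basic.twistToTilde (gen (n := n) (R := R) d i) = _ from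
    (Basic.twistEquiv (U n R i)).apply_symm_apply _] at h
  replace h := (Frac.val_fracSec (ℳ := 𝒢) _ _ _ _ x).symm.trans h
  change (((gen d i : Twist.sectN (𝒜 := 𝒢) d (op (U n R i)))).1 x : Twist.twistAt 𝒢 d x.1).1 * _ = _
  rw [← h, ← map_pow, ← map_pow]
  change (Localization.mk _ _ : Twist.Loc 𝒢 x.1) * _ = _
  rw [Localization.mk_eq_mk']
  exact IsLocalization.mk'_spec _ _ _

theorem isGen_gen' (d : ℤ) (i : Fin (n + 1)) :
    IsGen (Twist.twistProjSpace n R d) (U n R i) (gen d i) := by
  intro W hW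
  let c : MvPolynomial (Fin (n + 1)) R := MvPolynomial.X i ^ d.toNat
  let e : MvPolynomial (Fin (n + 1)) R := MvPolynomial.X i ^ (-d).toNat
  have hc : c ∈ 𝒢 d.toNat := by simpa using SetLike.pow_mem_graded d.toNat (X_mem_one (R := R) i)
  have he : e ∈ 𝒢 (-d).toNat := by
    simpa using SetLike.pow_mem_graded (-d).toNat (X_mem_one (R := R) i)
  have hU : W ≤ Proj.basicOpen 𝒢 (c * e) := fun x hx h =>
    (x.isPrime.mem_or_mem h).elim (fun h => hW hx (x.isPrime.mem_of_pow_mem _ h))
      (fun h => hW hx (x.isPrime.mem_of_pow_mem _ h))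
  have h : (fun a : Γ(CohB1.ProjSpace n R, W) => a • rs (Twist.twistProjSpace n R d) hW (gen d i)) =
      (Basic.twistEquiv W).symm ∘ Basic.mulEquiv (n := 0) (n' := d) hc he (by omega) hU ∘
        Basic.ofFun := by
    funext a
    refine ((Basic.twistEquiv W).eq_symm_apply).2 (Frac.sect_ext fun x => ?_)
    change sval (a • rs _ hW (gen d i)) x = _
    refine (sval_smul' a _ x).trans ?_
    have he' : e ∉ x.1.asHomogeneousIdeal := fun h => hW x.2 (x.1.isPrime.mem_of_pow_mem _ h)
    change _ = Basic.unitAt x.1 c e he' * fval a x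
    rw [mul_comm]
    congr 1
    let y : ProjectiveSpectrum 𝒢 := x.1
    change _ = Localization.mk c (⟨e, he'⟩ : y.asHomogeneousIdeal.toIdeal.primeCompl)
    rw [Localization.mk_eq_mk']
    refine IsLocalization.eq_mk'_iff_mul_eq.2 ?_
    refine (congrArg (_ * ·) (map_pow _ _ _)).trans ?_
    exact (sval_gen' d i ⟨x.1, hW x.2⟩).trans (map_pow _ _ _).symm
  rw [h]
  exact (Basic.twistEquiv W).symm.bijective.comp ((AddEquiv.bijective _).comp
    ⟨Basic.ofFun_injective, Basic.ofFun_surjective⟩)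

/-- The transition between the generators. -/
theorem gen_rel (d : ℤ) (i j : Fin (n + 1)) {W : (CohB1.ProjSpace n R).Opens} (hi : W ≤ U n R i)
    (hj : W ≤ U n R j) :
    rf hi (crd n R i j) ^ d.toNat • rs (Twist.twistProjSpace n R d) hi (gen d i) =
      rf hi (crd n R i j) ^ (-d).toNat • rs (Twist.twistProjSpace n R d) hj (gen d j) := by
  refine sect_ext' fun x => ?_
  refine (sval_smul' _ _ x).trans (Eq.trans ?_ (sval_smul' _ _ x).symm)
  rw [fval_pow, fval_pow, fval_rf]
  change fval (crd n R i j) ⟨x.1, hi x.2⟩ ^ d.toNat * sval (gen d i) ⟨x.1, hi x.2⟩ =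
    fval (crd n R i j) ⟨x.1, hi x.2⟩ ^ (-d).toNat * sval (gen d j) ⟨x.1, hj x.2⟩
  have h0 := sval_gen' (R := R) d i ⟨x.1, hi x.2⟩
  have h1 := sval_gen' (R := R) d j ⟨x.1, hj x.2⟩
  have ht := fval_crd (R := R) i j ⟨x.1, hi x.2⟩
  refine (((isUnit_A i x.1 (hi x.2)).pow (-d).toNat).mul_right_cancel ?_)
  rw [mul_assoc, h0, ← mul_pow, ht, mul_right_comm, ← mul_pow, ht, mul_comm, h1]

theorem isUnit_crd (i j : Fin (n + 1)) {W : (CohB1.ProjSpace n R).Opens} (hi : W ≤ U n R i)
    (hj : W ≤ U n R j) : IsUnit (rf hi (crd n R i j)) := by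
  have hle : W ≤ (CohB1.ProjSpace n R).basicOpen (crd n R i j) :=
    (le_inf hi hj).trans (basicOpen_crd i j).ge
  have h := (RingedSpace.isUnit_res_basicOpen (CohB1.ProjSpace n R).toLocallyRingedSpace.toRingedSpace
    (crd n R i j)).map ((CohB1.ProjSpace n R).presheaf.map (homOfLE hle).op).hom
  have e : rf hi (crd n R i j) = (CohB1.ProjSpace n R).presheaf.map (homOfLE hle).op
      ((CohB1.ProjSpace n R).presheaf.map
        (homOfLE ((CohB1.ProjSpace n R).basicOpen_le (crd n R i j))).op (crd n R i j)) := by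
    rw [← ConcreteCategory.comp_apply, ← Functor.map_comp]; rfl
  rw [e]
  exact h

variable (n) (φ : R →+* S)

theorem preimage_U (i : Fin (n + 1)) :
    BaseChange.projMap n φ ⁻¹ᵁ U n R i = U n S i :=
  (BaseChange.projMap_preimage_basicOpen n φ _).trans (by rw [MvPolynomial.map_X])

theorem le_preimage_U {i : Fin (n + 1)} {W : (CohB1.ProjSpace n S).Opens} (hi : W ≤ U n S i) :
    W ≤ BaseChange.projMap n φ ⁻¹ᵁ U n R i := hi.trans (preimage_U n φ i).ge

theorem appLE_crd (i j : Fin (n + 1)) {W : (CohB1.ProjSpace n S).Opens} (hi : W ≤ U n S i) :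
    (BaseChange.projMap n φ).appLE (U n R i) W (le_preimage_U n φ hi) (crd n R i j) =
      rf hi (crd n S i j) := by
  have h := congr($(Proj.awayToSection_comp_appLE (BaseChange.mapHom n φ)
    (BaseChange.irrelevant_le_map n φ) (X_mem_one (R := R) i)).hom (coord R i j))
  simp only [CommRingCat.hom_comp, RingHom.comp_apply, CommRingCat.hom_ofHom] at h
  have hle : W ≤ Proj.basicOpen (CohB1.polyGrading n S) (BaseChange.mapHom n φ (MvPolynomial.X i)) := by
    rw [BaseChange.mapHom_apply, MvPolynomial.map_X]; exact hi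
  have e : (BaseChange.projMap n φ).appLE (U n R i) W (le_preimage_U n φ hi) (crd n R i j) =
      rf hle (Proj.awayToSection (CohB1.polyGrading n S) (BaseChange.mapHom n φ (MvPolynomial.X i))
        (HomogeneousLocalization.Away.map (BaseChange.mapHom n φ) (MvPolynomial.X i) (coord R i j))) := by
    rw [← h]
    show _ = (CohB1.ProjSpace n S).presheaf.map (homOfLE hle).op _
    rw [← ConcreteCategory.comp_apply]
    exact congr($(((BaseChange.projMap n φ).appLE_map _ _).symm).hom (crd n R i j))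
  rw [e]
  refine fun_ext fun x => ?_
  change (Localization.mk (MvPolynomial.map φ (MvPolynomial.X j)) ⟨MvPolynomial.map φ (MvPolynomial.X i), _⟩ :
    Twist.Loc (CohB1.polyGrading n S) x.1) = Localization.mk (MvPolynomial.X j) ⟨MvPolynomial.X i, _⟩
  simp only [MvPolynomial.map_X]

/-- `projMap^* O(d) ≅ O(d)`. -/
theorem nonempty_iso (d : ℤ) :
    Nonempty ((Scheme.Modules.pullback (BaseChange.projMap n φ)).obj (Twist.twistProjSpace n R d) ≅
      Twist.twistProjSpace n S d) := by
  let g := BaseChange.projMap n φ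
  let e : ∀ i, Γ((Scheme.Modules.pullback g).obj (Twist.twistProjSpace n R d), U n S i) := fun i =>
    pbRes g _ (le_preimage_U n φ le_rfl) (gen d i)
  have he : ∀ i, IsGen _ (U n S i) (e i) := fun i => Cyc.PB.Sect.isGen_pbRes g (isGen_gen' d i) _
  obtain ⟨ψ, -⟩ := TensorMod.HomGlue.exists_iso_of_gen (U := U n S)
    (iSup_basicOpen_X_eq_top n S) e he (gen d) (fun i => isGen_gen' d i) fun i j W hi hj c hc => by
    have hi' : W ≤ g ⁻¹ᵁ (U n R i ⊓ U n R j) := le_inf (le_preimage_U n φ hi) (le_preimage_U n φ hj)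
    have hR := congrArg (pbRes g _ hi')
      (gen_rel (R := R) d i j (inf_le_left : U n R i ⊓ U n R j ≤ U n R i) inf_le_right)
    rw [pbRes_smul, pbRes_smul, map_pow, map_pow, Cyc.PB.Sect.pbRes_rs, Cyc.PB.Sect.pbRes_rs] at hR
    have ht : g.appLE (U n R i ⊓ U n R j) W hi' (rf inf_le_left (crd n R i j)) = rf hi (crd n S i j) := by
      rw [← appLE_crd n φ i j hi]
      exact congr($(g.map_appLE hi' (homOfLE (inf_le_left : U n R i ⊓ U n R j ≤ U n R i)).op).hom
        (crd n R i j))
    rw [ht] at hR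
    have ee : ∀ k (hk : W ≤ U n S k), rs _ hk (e k) =
        pbRes g _ (le_preimage_U n φ hk) (gen (R := R) d k) := fun k hk =>
      Cyc.PB.Sect.rs_pbRes g _ _ hk _
    rw [ee i hi, ee j hj] at hc
    rw [hc, smul_smul] at hR
    have hco := (Cyc.PB.Sect.isGen_pbRes g (isGen_gen' (R := R) d j)
      (le_preimage_U n φ hj) W le_rfl).1 (by
        simpa only [rs_self] using hR)
    refine ((isUnit_crd i j hi hj).pow d.toNat).smul_left_cancel.1 ?_
    rw [gen_rel d i j hi hj, smul_smul, hco]
  exact ⟨ψ⟩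

end Groth.Agent.Lib.ProjSpace.TwistBC
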