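import Groth.Agent.Lib.ProjSpace.IsBundle
import Groth.Agent.Lib.EulerSeq.Map
import Groth.Agent.Lib.FundLocal.DetSES
import Groth.Agent.Lib.FundLocal.Rank
import Groth.Agent.Lib.FundLocal.ExtPowExists
import Groth.Agent.Lib.Cyc.CH.DetFilt
import Groth.Agent.Lib.Modules.ExtPowTwist
import Groth.Agent.Lib.ProjTilde.Tensor

/-!
# The canonical module of projective space
-/

set_option autoImplicit false
set_option linter.style.haveILetI false

noncomputable section

universe u

open CategoryTheory CategoryTheory.Limits AlgebraicGeometry TopologicalSpace Opposite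
open ZarCoh.FlatBC.PullbackSections

namespace Groth.Agent.Lib.ProjSpace.Canonical

open Groth.Agent.Lib TensorMod TensorMod.Basic TensorMod.Dual TensorMod.Gen TensorMod.Basis

/-- A module with a global basis has determinant charts in the structure module. -/
theorem nonempty_detAtlas_of_isBasis {X : Scheme.{u}} {M : X.Modules} {r : ℕ}
    {e : Fin r → Γ(M, ⊤)} (he : IsBasis e) : Nonempty (Cyc.CH.DetAtlas r M (Coh.structureModule X)) := by
  obtain ⟨i⟩ := exists_iso_of_basis he
  obtain ⟨s, hs⟩ := CurveBundle.Coherent.exists_basis_sections i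
  let b : ∀ y : X, Module.Basis (Fin r) (X.presheaf.stalk y) (M.presheaf.stalk y) :=
    fun y => Module.Basis.mk (hs y trivial).1 (hs y trivial).2.ge
  let one : Γ(Coh.structureModule X, ⊤) := (1 : Γ(X, ⊤))
  have hone : IsGen (Coh.structureModule X) ⊤ one := Cyc.PB.Univ.isGen_one' X
  exact ⟨{ U := fun _ => ⊤, mem := fun _ => trivial, e := fun _ => s, g := fun _ => one,
           b := fun _ y _ => b y, hb := fun _ y _ i => Module.Basis.mk_apply _ _ i,
           gen := fun _ y _ => Cyc.CH.bijective_smul_of_span (PicLoc.isInvertible_structureModule X)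
             (Cyc.PB.span_germ_eq_top hone y trivial),
           trans := fun _ _ y _ _ => by rw [Module.Basis.det_self, one_smul] }⟩

variable (n : ℕ) (k : Type u) [CommRing k]

theorem hcov : ∀ x : ProjectiveSpectrum (CohB1.polyGrading n k),
    ∃ f ∈ CohB1.polyGrading n k 1, f ∉ x.asHomogeneousIdeal := fun x => by
  obtain ⟨i, hi⟩ := Opens.mem_iSup.1
    (show x ∈ iSup (PicProj.Main.U n k) from (ProjSpace.Basic.iSup_basicOpen_X_eq_top n k).ge trivial)
  exact ⟨MvPolynomial.X i, MvPolynomial.isHomogeneous_X k i, hi⟩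

theorem twist_cancel : Nonempty (CohB1.tensorMod (CohB1.tensorPow (Twist.twistProjSpace n k 1) (n + 1))
    (Twist.twistProjSpace n k (-((n : ℤ) + 1))) ≅ Coh.structureModule (CohB1.ProjSpace n k)) := by
  obtain ⟨i⟩ := ProjTilde.Tensor.twist_iso_tensorPow (hcov n k) (n + 1)
  obtain ⟨j⟩ := ProjTilde.Tensor.twist_iso_tensorPow (hcov n k) 0
  exact ⟨tensorIso i.symm (Iso.refl _) ≪≫
    ProjTilde.Tensor.twistTensorIso (hcov n k) ((n + 1 : ℕ) : ℤ) (-((n : ℤ) + 1)) ≪≫
    eqToIso (congrArg (Twist.twist _) (by push_cast; ring)) ≪≫ j⟩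

variable [SmoothOfRelativeDimension n (CohB1.ProjSpace.toSpec n k)]

/-- `Ω^n` of projective `n`-space is `O(-n-1)`. -/
theorem nonempty_iso (ΩP : (CohB1.ProjSpace n k).Modules)
    (h : ExtPow.IsExtPow n (Omega.sheaf (CohB1.ProjSpace.toSpec n k)) ΩP) :
    Nonempty (ΩP ≅ Twist.twistProjSpace n k (-((n : ℤ) + 1))) := by
  haveI := ProjSpace.Basic.isProper_toSpec n k
  haveI : Smooth (CohB1.ProjSpace.toSpec n k) :=
    SmoothOfRelativeDimension.smooth n (CohB1.ProjSpace.toSpec n k)
  let p := CohB1.ProjSpace.toSpec n k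
  let O1 := Twist.twistProjSpace n k 1
  let E := (Scheme.Modules.pullback p).obj (FlatMod.freeMod (Spec (CommRingCat.of k)) (n + 1))
  obtain ⟨q, hq⟩ := IsBundle.exists_isProjBundle n k
  have hO1 : PicF.IsInvertible O1 := IsBundle.isInvertible_one n k
  have hfree : (FlatMod.freeMod (Spec (CommRingCat.of k)) (n + 1)).IsQuasicoherent :=
    CurveBundle.Coherent.isQCoh_freeMod _ _
  obtain ⟨e⟩ := EulerSeq.Map.nonempty_iso (q := q) (OmegaSh.dOmega p) hfree
    (fun x => EulerSeq.Map.exists_frame hq (TensorMod.LocFree.of_rank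
      (TensorMod.LocFree.isFinLocFree_freeMod _ _)) x) (Kaehler.DOmega.isUniversal_dOmega p) hq
  have hΩ : FlatMod.IsFinLocFreeOfRank n (Omega.sheaf p) := FundLocal.Rank.isFinLocFreeOfRank_omega p n
  have hK : FlatMod.IsFinLocFreeOfRank n (CohB1.tensorMod (Omega.sheaf p) O1) := by
    simpa using TensorMod.LocFree.rank_tensorMod hΩ (TensorMod.LocFree.of_isInvertible hO1)
  haveI := CurveBundle.Coherent.isQCoh (TensorMod.LocFree.of_rank hK)
  obtain ⟨M, hM⟩ := FundLocal.ExtPowExists.exists_isExtPow (CohB1.tensorMod (Omega.sheaf p) O1) n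
  obtain ⟨φM, hφM⟩ := hM
  obtain ⟨φN, hφN⟩ := h
  obtain ⟨eM⟩ := Modules.ExtPowTwist.nonempty_iso φM hφM φN hφN hO1
  obtain ⟨A₁⟩ := Cyc.CH.nonempty_detAtlas_of_isExtPow hK ⟨φM, hφM⟩
  obtain ⟨A₃⟩ := Cyc.CH.Filt.nonempty_detAtlas (Cyc.CH.Filt.singleton hO1)
  haveI : Epi q := hq.epi
  let S := ShortComplex.mk (e.hom ≫ kernel.ι q) q (by rw [Category.assoc, kernel.condition, comp_zero])
  have hS : S.ShortExact := by
    have h0 : (ShortComplex.mk (kernel.ι q) q (kernel.condition q)).ShortExact :=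
      { exact := ShortComplex.exact_kernel q }
    let i : ShortComplex.mk (kernel.ι q) q (kernel.condition q) ≅ S :=
      ShortComplex.isoMk e.symm (Iso.refl _) (Iso.refl _) (by simp [S]) (by simp [S])
    exact ShortComplex.shortExact_of_iso i h0
  obtain ⟨A⟩ := FundLocal.DetSES.nonempty_detAtlas hS (rfl : n + 1 = n + 1) A₁ A₃
  obtain ⟨B⟩ := nonempty_detAtlas_of_isBasis (EulerSeq.Frame.isBasis_pbRes (π := p) hfree
    (isAffineOpen_top _) (IsBundle.isBasis_e n k))
  obtain ⟨c⟩ := A.nonempty_iso B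
  obtain ⟨t⟩ := twist_cancel n k
  let T := CohB1.tensorPow O1 (n + 1)
  let d : CohB1.tensorMod ΩP T ≅ Coh.structureModule (CohB1.ProjSpace n k) :=
    (assoc ΩP (CohB1.tensorPow O1 n) O1).symm ≪≫
      tensorIso eM.symm (rightUnit O1).symm ≪≫ c
  exact ⟨(rightUnit ΩP).symm ≪≫ tensorIso (Iso.refl ΩP) t.symm ≪≫ (assoc _ _ _).symm ≪≫
    tensorIso d (Iso.refl _) ≪≫ leftUnit _⟩

end Groth.Agent.Lib.ProjSpace.Canonical
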