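import Groth.Agent.Lib.ProjSpace.Dim
import Groth.Agent.Lib.Kaehler.SmoothDim
import Mathlib.AlgebraicGeometry.Morphisms.Smooth

/-!
# The dimension of a smooth scheme over a field
-/

set_option autoImplicit false
set_option linter.style.haveILetI false

noncomputable section

universe u

open CategoryTheory AlgebraicGeometry TopologicalSpace

namespace Groth.Agent.Lib.ProjSpace.SmoothDimLE

open Groth.Agent.Lib

/-- A standard smooth algebra of relative dimension `r` over a field has dimension at most `r`. -/
theorem ringKrullDim_le (k : Type u) [Field k] {A : Type u} [CommRing A] [Algebra k A] (r : ℕ)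
    [Algebra.IsStandardSmoothOfRelativeDimension r k A] : ringKrullDim A ≤ (r : WithBot ℕ∞) := by
  haveI : Algebra.IsStandardSmooth k A :=
    Algebra.IsStandardSmoothOfRelativeDimension.isStandardSmooth r
  haveI : Algebra.FiniteType k A := inferInstance
  refine iSup_le fun l => ?_
  obtain ⟨q, hq, hle⟩ := Ideal.exists_minimalPrimes_le (bot_le : (⊥ : Ideal A) ≤ l.head.asIdeal)
  haveI : q.IsPrime := hq.1.1
  have h1 := Dim.Basic.length_add_dimQ_le k l
  have h2 := Dim.Basic.dimQ_anti k hle
  have h3 := Kaehler.SmoothDim.dimQ_of_minimal k (n := r) hq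
  exact_mod_cast (show l.length ≤ r by omega)

/-- A scheme smooth of relative dimension `r` over a field has dimension at most `r`. -/
theorem topologicalKrullDim_le (k : Type u) [Field k] {X : Scheme.{u}}
    (c : X ⟶ Spec (CommRingCat.of k)) (r : ℕ) [SmoothOfRelativeDimension r c] :
    topologicalKrullDim X ≤ (r : WithBot ℕ∞) := by
  choose U hU V hV hxV e hst using fun x : X =>
    SmoothOfRelativeDimension.exists_isStandardSmoothOfRelativeDimension (n := r) (f := c) x
  refine Dim.topologicalKrullDim_le_of_cover (Y := fun x => Spec Γ(X, V x)) (fun x => (hV x).fromSpec)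
    (fun x => (hV x).fromSpec.isOpenEmbedding) (fun x => ⟨x, ?_⟩) fun x => ?_
  · exact (show x ∈ Set.range (hV x).fromSpec by rw [(hV x).range_fromSpec]; exact hxV x)
  · have hUtop : U x = ⊤ := by
      ext y
      simp only [Opens.coe_top, Set.mem_univ, iff_true, SetLike.mem_coe]
      rw [Subsingleton.elim y (c.base x)]
      exact e x (hxV x)
    have h := hst x
    revert h
    generalize e x = e'
    revert e'
    rw [hUtop]
    intro e' h
    let χ : CommRingCat.of k ⟶ Γ(X, V x) := (Scheme.ΓSpecIso _).inv ≫ c.appLE ⊤ (V x) e'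
    have hχ : χ.hom.IsStandardSmoothOfRelativeDimension r :=
      (RingHom.isStandardSmoothOfRelativeDimension_respectsIso (n := r)).2 _
        (Scheme.ΓSpecIso (CommRingCat.of k)).commRingCatIsoToRingEquiv.symm h
    letI : Algebra k Γ(X, V x) := χ.hom.toAlgebra
    haveI : Algebra.IsStandardSmoothOfRelativeDimension r k Γ(X, V x) := hχ
    show topologicalKrullDim (PrimeSpectrum Γ(X, V x)) ≤ _
    rw [PrimeSpectrum.topologicalKrullDim_eq_ringKrullDim]
    exact ringKrullDim_le k r

end Groth.Agent.Lib.ProjSpace.SmoothDimLE
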