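import Groth.Agent.Lib.ProjSpace.BundleChart
import Groth.Agent.Lib.EulerSeq.Frame
import Groth.Agent.Lib.TensorMod.QCohInv
import Groth.Agent.Lib.TensorMod.LocFree

/-!
# Projective space is the projective bundle of a free module
-/

set_option autoImplicit false
set_option linter.style.haveILetI false

noncomputable section

universe u

open CategoryTheory CategoryTheory.Limits AlgebraicGeometry TopologicalSpace Opposite
open ZarCoh.FlatBC.PullbackSections

namespace Groth.Agent.Lib.ProjSpace.IsBundle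

open Groth.Agent.Lib Groth.Agent.Lib.Cyc TensorMod TensorMod.Dual TensorMod.Gen TensorMod.Basis
open Groth.Agent.Lib.Cyc.PB.Sect Groth.Agent.Lib.Cyc.PB.Univ

variable (n : ℕ) (R : Type u) [CommRing R]

/-- The standard generators of the free module on the base. -/
abbrev e (k : Fin (n + 1)) : Γ(FlatMod.freeMod (Spec (CommRingCat.of R)) (n + 1), ⊤) :=
  Modules.Free.gen (Spec (CommRingCat.of R)) k

theorem isBasis_e : IsBasis (e n R) := isBasis_freeMod _ _

theorem exists_q : ∃ q : (Scheme.Modules.pullback (CohB1.ProjSpace.toSpec n R)).obj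
      (FlatMod.freeMod (Spec (CommRingCat.of R)) (n + 1)) ⟶ Twist.twistProjSpace n R 1,
    ∀ k, q.app ⊤ (pbRes (CohB1.ProjSpace.toSpec n R) _ le_top (e n R k)) = ProjUP.coord n R k :=
  exists_hom_basis (CohB1.ProjSpace.toSpec n R) le_top (isBasis_e n R) fun k => ProjUP.coord n R k

theorem isInvertible_one : PicF.IsInvertible (Twist.twistProjSpace n R 1) :=
  isInvertible_iff.2 fun x => by
    obtain ⟨i, hi⟩ := Opens.mem_iSup.1
      (show x ∈ iSup (PicProj.Main.U n R) from (ProjSpace.Basic.iSup_basicOpen_X_eq_top n R).ge trivial)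
    exact ⟨_, PicProj.Main.gen 1 i, hi, TwistBC.isGen_gen' 1 i⟩

/-- Projective space with `O(1)` and the coordinates is the projective bundle of the free module. -/
theorem exists_isProjBundle : ∃ q : (Scheme.Modules.pullback (CohB1.ProjSpace.toSpec n R)).obj
      (FlatMod.freeMod (Spec (CommRingCat.of R)) (n + 1)) ⟶ Twist.twistProjSpace n R 1,
    KRR.IsProjBundle (CohB1.ProjSpace.toSpec n R) (FlatMod.freeMod (Spec (CommRingCat.of R)) (n + 1))
      (Twist.twistProjSpace n R 1) q := by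
  obtain ⟨q, hq⟩ := exists_q n R
  refine ⟨q, TensorMod.LocFree.of_isInvertible (isInvertible_one n R), ⟨fun {Z} a b hab => ?_⟩,
    fun T g L hL s hs => ?_⟩
  · refine HomGlue.hom_ext_gen (U := PicProj.Main.U n R) (ProjSpace.Basic.iSup_basicOpen_X_eq_top n R)
      (PicProj.Main.gen 1) (fun i => TwistBC.isGen_gen' 1 i) fun i => ?_
    rw [← BundleChart.coord_eq_gen, ← HomGlue.rs_app, ← HomGlue.rs_app, ← hq i]
    exact congrArg (rs Z le_top)
      (congrArg (fun φ => φ.app ⊤ (pbRes (CohB1.ProjSpace.toSpec n R) _ le_top (e n R i))) hab)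
  let v : Fin (n + 1) → Γ(L, ⊤) := fun k => s.app ⊤ (pbRes g _ le_top (e n R k))
  have hb : IsBasis fun k => pbRes g (FlatMod.freeMod (Spec (CommRingCat.of R)) (n + 1))
      (le_refl (g ⁻¹ᵁ ⊤)) (e n R k) :=
    EulerSeq.Frame.isBasis_pbRes (TensorMod.QCohInv.isQCoh_of_isFinLocFree
      (TensorMod.LocFree.of_rank (TensorMod.LocFree.isFinLocFree_freeMod _ _))) (isAffineOpen_top _)
      (isBasis_e n R)
  have hgen : ProjUP.GeneratedBy L v := fun t => by
    refine eq_top_iff.2 fun x _ => ?_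
    obtain ⟨y, rfl⟩ := Modules.Stalk.epi_iff_stalk_surjective s |>.1 hs t x
    obtain ⟨W, hW, m, rfl⟩ := TopCat.Presheaf.exists_germ_eq _ y
    obtain ⟨c, hc⟩ := (hb W le_top).2 m
    rw [← hc]
    erw [Modules.Stalk.stalkFunctor_map_germ, app_comb]
    simp only [comb, map_sum]
    refine Submodule.sum_mem _ fun k _ => ?_
    rw [Modules.StalkModule.germ_smul]
    refine Submodule.smul_mem _ _ (Submodule.subset_span ⟨k, ?_⟩)
    exact (TopCat.Presheaf.germ_res_apply L.presheaf (homOfLE le_top) t hW (v k)).symm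
  obtain ⟨r, hr, τ, hτ⟩ := ProjMor.Poly.exists_map n R g L (TensorMod.LocFree.isInvertible_of_rank_one hL) v hgen
  have hU : (⊤ : T.Opens) ≤ g ⁻¹ᵁ ⊤ := le_top
  have hsec : ∀ k, sec q (e n R) k = ProjUP.coord n R k := hq
  refine ⟨r, ⟨hr, τ, hom_ext_basis g hU (isBasis_e n R) fun k => ?_⟩, fun r' ⟨hr', i', hi'⟩ => ?_⟩
  · rw [classify_app (e n R) hr hU, hsec]
    exact (congrArg (τ.hom.app ⊤) (BundleChart.pullSec_eq r _ _ _)).trans (hτ k)
  · refine ProjMor.Poly.eq_of_iso n R r' r (hr'.trans hr.symm) (i' ≪≫ τ.symm) fun k => ?_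
    have h1 := congrArg (fun φ => φ.app ⊤ (pbRes g _ hU (e n R k))) hi'
    rw [classify_app (e n R) hr' hU, hsec] at h1
    have h2 := (congrArg (i'.hom.app ⊤) (BundleChart.pullSec_eq r' _ _ _)).symm.trans h1
    exact ((congrArg (τ.inv.app ⊤) h2).trans (congrArg (τ.inv.app ⊤) (hτ k).symm)).trans
      (BundleChart.app_hom_inv τ _)

end Groth.Agent.Lib.ProjSpace.IsBundle
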